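import Groth.Prelude.Def_PolLaw
import Mathlib.LinearAlgebra.Vandermonde
import Mathlib.LinearAlgebra.Matrix.NonsingularInverse
import Mathlib.RingTheory.LocalRing.ResidueField.Ideal
import Mathlib.RingTheory.LittleWedderburn
import Mathlib.Algebra.Module.LocalizedModule.Basic
import Mathlib.SetTheory.Cardinal.Finite

/-!
# `γ_d` spans `Γ^d` locally
-/

set_option autoImplicit false
universe u

open DividedPowerAlgebra

namespace Groth.Agent.GammaSpan

variable {A M : Type u} [CommRing A] [AddCommGroup M] [Module A M]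

/-- Elements in the span of `γ_e` after localising at `p`. -/
def sat (p : Ideal A) [p.IsPrime] (e : ℕ) : Submodule A (DividedPowerAlgebra A M) where
  carrier := {y | ∃ s ∉ p, s • y ∈ Submodule.span A (Set.range (dp A e : M → DividedPowerAlgebra A M))}
  add_mem' := by
    rintro x y ⟨s, hs, hx⟩ ⟨t, ht, hy⟩
    refine ⟨s * t, fun h => (Ideal.IsPrime.mem_or_mem ‹_› h).elim hs ht, ?_⟩
    rw [smul_add]
    exact add_mem (by rw [mul_comm, mul_smul]; exact Submodule.smul_mem _ _ hx)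
      (by rw [mul_smul]; exact Submodule.smul_mem _ _ hy)
  zero_mem' := ⟨1, (Ideal.ne_top_iff_one p).1 Ideal.IsPrime.ne_top', by simp⟩
  smul_mem' := by
    rintro a x ⟨s, hs, hx⟩
    exact ⟨s, hs, by rw [smul_comm]; exact Submodule.smul_mem _ _ hx⟩

theorem range_le_sat (p : Ideal A) [p.IsPrime] (e : ℕ) (m : M) : dp A e m ∈ sat p e :=
  ⟨1, (Ideal.ne_top_iff_one p).1 Ideal.IsPrime.ne_top', by rw [one_smul]; exact Submodule.subset_span ⟨m, rfl⟩⟩

/-- If enough residues are available, products of two divided powers are in the saturated span. -/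
theorem mul_mem_of_residues (p : Ideal A) [p.IsPrime] {d : ℕ} (t : Fin (d - 1) → A)
    (ht0 : ∀ j, t j ∉ p) (ht : ∀ i j, i ≠ j → t i - t j ∉ p) {a b : ℕ} (hab : a + b ≤ d) (m n : M) :
    dp A a m * dp A b n ∈ sat p (a + b) := by
  classical
  rcases Nat.eq_zero_or_pos a with rfl | ha
  · simpa [dp_zero] using range_le_sat p b n
  rcases Nat.eq_zero_or_pos b with rfl | hb
  · simpa [dp_zero] using range_le_sat p a m
  obtain ⟨r, hr⟩ : ∃ r, a + b = r + 2 := ⟨a + b - 2, by omega⟩
  let τ : Fin (r + 1) → A := fun j => t (Fin.castLE (by omega) j)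
  let V : Matrix (Fin (r + 1)) (Fin (r + 1)) A := Matrix.of fun j i => τ j ^ ((i : ℕ) + 1)
  have hV : V.det ∉ p := by
    have hVe : V = Matrix.diagonal τ * Matrix.vandermonde τ := by
      ext j i
      simp [V, Matrix.diagonal_mul, pow_succ, mul_comm]
    rw [hVe, Matrix.det_mul, Matrix.det_diagonal, Matrix.det_vandermonde]
    intro h
    rcases Ideal.IsPrime.mem_or_mem ‹_› h with h | h
    · obtain ⟨j, -, hj⟩ := (Ideal.IsPrime.prod_mem_iff).1 h
      exact ht0 _ hj
    · obtain ⟨i, -, hi⟩ := (Ideal.IsPrime.prod_mem_iff).1 h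
      obtain ⟨j, hj, hij⟩ := (Ideal.IsPrime.prod_mem_iff).1 hi
      refine ht _ _ (fun he => ?_) hij
      exact (Finset.mem_Ioi.1 hj).ne' (Fin.castLE_injective _ he)
  let c : ℕ → DividedPowerAlgebra A M := fun i => dp A (r + 2 - i) m * dp A i n
  have hexp : ∀ x : A, dp A (r + 2) (m + x • n) = ∑ i ∈ Finset.range (r + 3), x ^ i • c i := by
    intro x
    rw [dp_add, Finset.Nat.sum_antidiagonal_eq_sum_range_succ_mk, ← Finset.sum_range_reflect]
    refine Finset.sum_congr rfl fun i hi => ?_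
    have h2 : r + 2 + 1 - 1 - i = r + 2 - i := by omega
    have h3 : r + 2 - (r + 2 - i) = i := by have := Finset.mem_range.1 hi; omega
    simp only [h2, h3, dp_smul, mul_smul_comm, c]
  let w : Fin (r + 1) → DividedPowerAlgebra A M := fun j =>
    dp A (r + 2) (m + τ j • n) - c 0 - τ j ^ (r + 2) • c (r + 2)
  have hw : ∀ j, ∑ i : Fin (r + 1), V j i • c ((i : ℕ) + 1) = w j := by
    intro j
    simp only [w, hexp, Finset.sum_range_succ _ (r + 2), Finset.sum_range_succ' _ (r + 1), pow_zero, one_smul,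
      V, Matrix.of_apply]
    rw [Fin.sum_univ_eq_sum_range (fun i => τ j ^ (i + 1) • c (i + 1)) (r + 1)]
    abel
  have hwmem : ∀ j, w j ∈ Submodule.span A (Set.range (dp A (r + 2) : M → DividedPowerAlgebra A M)) := fun j => by
    refine sub_mem (sub_mem (Submodule.subset_span ⟨_, rfl⟩) ?_) (Submodule.smul_mem _ _ ?_)
    · exact Submodule.subset_span ⟨m, by simp [c, dp_zero]⟩
    · exact Submodule.subset_span ⟨n, by simp [c, dp_zero]⟩
  refine ⟨V.det, hV, ?_⟩
  rw [hr]
  have hl : b - 1 < r + 1 := by omega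
  have key : ∑ j, V.adjugate ⟨b - 1, hl⟩ j • w j = V.det • c (((⟨b - 1, hl⟩ : Fin (r + 1)) : ℕ) + 1) := by
    simp only [← hw, Finset.smul_sum, smul_smul]
    rw [Finset.sum_comm]
    simp only [← Finset.sum_smul, ← Matrix.mul_apply, Matrix.adjugate_mul, Matrix.smul_apply, Matrix.one_apply,
      smul_eq_mul, mul_ite, mul_one, mul_zero, ite_smul, zero_smul, Finset.sum_ite_eq, Finset.mem_univ, if_true]
  have hc : c (b - 1 + 1) = dp A a m * dp A b n := by
    simp only [c, show b - 1 + 1 = b by omega, show r + 2 - b = a by omega]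
  rw [← hc, ← key]
  exact sum_mem fun j _ => Submodule.smul_mem _ _ (hwmem j)

theorem prod_mem_of_residues (p : Ideal A) [p.IsPrime] {d : ℕ} (t : Fin (d - 1) → A)
    (ht0 : ∀ j, t j ∉ p) (ht : ∀ i j, i ≠ j → t i - t j ∉ p) :
    ∀ (n : ℕ) (k : Fin n → ℕ) (m : Fin n → M), (∑ i, k i) ≤ d → ∏ i, dp A (k i) (m i) ∈ sat p (∑ i, k i) := by
  intro n
  induction n with
  | zero => intro k m _; simpa [dp_zero] using range_le_sat (M := M) p 0 0
  | succ n ih =>
    intro k m hk
    rw [Fin.sum_univ_succ] at hk ⊢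
    rw [Fin.prod_univ_succ]
    obtain ⟨s, hs, h⟩ := ih (fun i => k i.succ) (fun i => m i.succ) (by omega)
    have h' : dp A (k 0) (m 0) * (s • ∏ i : Fin n, dp A (k i.succ) (m i.succ)) ∈
        sat p (k 0 + ∑ i : Fin n, k i.succ) := by
      generalize hy : s • ∏ i : Fin n, dp A (k i.succ) (m i.succ) = y at h
      clear hy
      induction h using Submodule.span_induction with
      | mem x hx => obtain ⟨z, rfl⟩ := hx; exact mul_mem_of_residues p t ht0 ht hk _ _
      | zero => rw [mul_zero]; exact zero_mem _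
      | add x y _ _ hx hy => rw [mul_add]; exact add_mem hx hy
      | smul a x _ hx => rw [mul_smul_comm]; exact Submodule.smul_mem _ _ hx
    obtain ⟨s', hs', h''⟩ := h'
    refine ⟨s' * s, fun hh => (Ideal.IsPrime.mem_or_mem ‹_› hh).elim hs' hs, ?_⟩
    rwa [mul_smul, ← mul_smul_comm]

theorem prod_mem_of_cyclic (p : Ideal A) [p.IsPrime] (x : M)
    (hx : ∀ m : M, ∃ s ∉ p, ∃ a : A, s • m = a • x) :
    ∀ (n : ℕ) (k : Fin n → ℕ) (m : Fin n → M), ∏ i, dp A (k i) (m i) ∈ sat p (∑ i, k i) := by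
  suffices h : ∀ (n : ℕ) (k : Fin n → ℕ) (m : Fin n → M),
      ∃ s ∉ p, ∃ c : A, s • ∏ i, dp A (k i) (m i) = c • dp A (∑ i, k i) x by
    intro n k m
    obtain ⟨s, hs, c, hc⟩ := h n k m
    exact ⟨s, hs, hc ▸ Submodule.smul_mem _ _ (Submodule.subset_span ⟨x, rfl⟩)⟩
  intro n
  induction n with
  | zero => intro k m; exact ⟨1, (Ideal.ne_top_iff_one p).1 Ideal.IsPrime.ne_top', 1, by simp [dp_zero]⟩
  | succ n ih =>
    intro k m
    obtain ⟨s, hs, c, hc⟩ := ih (fun i => k i.succ) (fun i => m i.succ)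
    obtain ⟨s', hs', a, ha⟩ := hx (m 0)
    refine ⟨s' ^ k 0 * s, fun hh => (Ideal.IsPrime.mem_or_mem ‹_› hh).elim
      (fun h => hs' (Ideal.IsPrime.mem_of_pow_mem ‹_› _ h)) hs,
      a ^ k 0 * c * (Nat.choose (k 0 + ∑ i : Fin n, k i.succ) (k 0) : A), ?_⟩
    rw [Fin.prod_univ_succ, Fin.sum_univ_succ, ← smul_mul_smul_comm, hc, ← dp_smul, ha, dp_smul,
      smul_mul_smul_comm, dp_mul, ← Nat.cast_smul_eq_nsmul A, smul_smul]

theorem exists_residues (p : Ideal A) [p.IsPrime] {d : ℕ} (h : (d : Cardinal) ≤ Cardinal.mk p.ResidueField) :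
    ∃ t : Fin (d - 1) → A, (∀ j, t j ∉ p) ∧ ∀ i j, i ≠ j → t i - t j ∉ p := by
  classical
  have hd : (d : Cardinal) ≤ Cardinal.mk (A ⧸ p) := by
    by_cases hfin : Finite (A ⧸ p)
    · exact h.trans (Cardinal.mk_le_of_surjective (f := algebraMap (A ⧸ p) p.ResidueField)
        (IsFractionRing.surjective_iff_isField.2 (Finite.isDomain_to_isField _)))
    · haveI : Infinite (A ⧸ p) := not_finite_iff_infinite.1 hfin
      exact (Cardinal.natCast_lt_aleph0 (n := d)).le.trans (Cardinal.aleph0_le_mk _)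
  obtain ⟨f⟩ : Nonempty (Fin d ↪ A ⧸ p) := by
    have h' : Cardinal.lift.{0} (Cardinal.mk (A ⧸ p)) ≥ Cardinal.lift.{u} (Cardinal.mk (Fin d)) := by simpa using hd
    exact Cardinal.lift_mk_le'.1 h'
  let s : Finset (A ⧸ p) := (Finset.univ.map f).erase 0
  have hs : d - 1 ≤ s.card := by
    have := Finset.pred_card_le_card_erase (s := Finset.univ.map f) (a := (0 : A ⧸ p))
    simpa using this
  let g : Fin (d - 1) → A ⧸ p := fun j => (s.equivFin.symm (Fin.castLE hs j) : A ⧸ p)
  choose t ht using fun j => Ideal.Quotient.mk_surjective (g j)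
  refine ⟨t, fun j hj => ?_, fun i j hij hm => ?_⟩
  · have h0 : g j = 0 := by rw [← ht, Ideal.Quotient.eq_zero_iff_mem]; exact hj
    exact (Finset.mem_erase.1 (s.equivFin.symm (Fin.castLE hs j)).2).1 h0
  · apply hij
    have h1 : g i = g j := by rw [← ht, ← ht, Ideal.Quotient.eq]; exact hm
    exact Fin.castLE_injective hs (s.equivFin.symm.injective (Subtype.ext h1))

end Groth.Agent.GammaSpan
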