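import Groth.Prelude.Def_PolLaw
import Mathlib.RingTheory.PiTensorProduct
import Mathlib.LinearAlgebra.Multilinear.Basic
import Mathlib.Algebra.TrivSqZeroExt.Basic
import Mathlib.RingTheory.LocalRing.Module
import Mathlib.RingTheory.LocalRing.ResidueField.Ideal
import Mathlib.FieldTheory.Finite.Basic
import Mathlib.Algebra.Module.LocalizedModule.Basic
import Mathlib.Algebra.Polynomial.BigOperators
import Mathlib.LinearAlgebra.FiniteDimensional.Basic
import Mathlib.RingTheory.Localization.Module

/-!
# When `γ_d` does not span `Γ^d`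
-/

set_option autoImplicit false
universe u v

open scoped TensorProduct
open Polynomial

namespace Groth.Agent.GammaSpan

/-- The elementary symmetric expression of a family. -/
noncomputable def esym {R : Type v} [CommRing R] {ι : Type*} (s : Finset ι) (n : ℕ) (x : ι → R) : R :=
  (∏ l ∈ s, (1 + C (x l) * X)).coeff n

section esym

variable {R : Type v} [CommRing R] {ι : Type*} (s : Finset ι) (x y : ι → R)

theorem esym_zero : esym s 0 x = 1 := by
  simp [esym, coeff_zero_prod]

theorem esym_insert [DecidableEq ι] {a : ι} (ha : a ∉ s) (n : ℕ) :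
    esym (insert a s) (n + 1) x = esym s (n + 1) x + x a * esym s n x := by
  simp only [esym, Finset.prod_insert ha, add_mul, one_mul, coeff_add, mul_assoc, coeff_C_mul, coeff_X_mul]

theorem esym_smul (c : R) (n : ℕ) : esym s n (fun l => c * x l) = c ^ n * esym s n x := by
  have h : ∏ l ∈ s, (1 + C (c * x l) * X) = (∏ l ∈ s, (1 + C (x l) * X)).comp (C c * X) := by
    rw [prod_comp]
    refine Finset.prod_congr rfl fun l _ => ?_
    simp only [add_comp, one_comp, mul_comp, C_comp, X_comp, map_mul]
    ring
  rw [esym, h, comp_C_mul_X_coeff, mul_comm]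
  rfl

theorem esym_mul (hx : ∀ l, x l * x l = 0) :
    ∀ a b : ℕ, esym s a x * esym s b x = (a + b).choose a • esym s (a + b) x := by
  classical
  induction s using Finset.induction_on with
  | empty =>
    intro a b
    rcases a with _ | a <;> rcases b with _ | b <;> simp [esym, coeff_one]
  | insert l s hl ih =>
    intro a b
    rcases a with _ | a
    · simp [esym_zero]
    rcases b with _ | b
    · simp [esym_zero]
    rw [show a + 1 + (b + 1) = a + b + 1 + 1 by ring, esym_insert s x hl, esym_insert s x hl, esym_insert s x hl]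
    have h1 := ih (a + 1) (b + 1)
    have h2 := ih a (b + 1)
    have h3 := ih (a + 1) b
    rw [show a + 1 + (b + 1) = a + b + 1 + 1 by ring] at h1
    rw [show a + (b + 1) = a + b + 1 by ring] at h2
    rw [show a + 1 + b = a + b + 1 by ring] at h3
    have h4 : ((a + b + 1 + 1).choose (a + 1)) = (a + b + 1).choose a + (a + b + 1).choose (a + 1) :=
      Nat.choose_succ_succ' _ _
    simp only [nsmul_eq_mul] at h1 h2 h3 ⊢
    have h4' : (((a + b + 1 + 1).choose (a + 1) : ℕ) : R) = ((a + b + 1).choose a : R) + ((a + b + 1).choose (a + 1) : R) := by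
      rw [h4, Nat.cast_add]
    linear_combination h1 + x l * h2 + x l * h3 + (esym s a x * esym s b x) * hx l -
      x l * esym s (a + b + 1) x * h4'

theorem esym_add (hxy : ∀ l, x l * y l = 0) (n : ℕ) :
    esym s n (fun l => x l + y l) = ∑ ij ∈ Finset.antidiagonal n, esym s ij.1 x * esym s ij.2 y := by
  have h : ∏ l ∈ s, (1 + C (x l + y l) * X) = (∏ l ∈ s, (1 + C (x l) * X)) * ∏ l ∈ s, (1 + C (y l) * X) := by
    rw [← Finset.prod_mul_distrib]
    refine Finset.prod_congr rfl fun l _ => ?_
    have h2 : (C (x l) * C (y l) : R[X]) = 0 := by rw [← map_mul, hxy, map_zero]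
    rw [map_add]
    linear_combination (-(X * X)) * h2
  rw [esym, h, coeff_mul]
  rfl

theorem esym_eq_sum (n : ℕ) : esym s n x = ∑ t ∈ s.powersetCard n, ∏ l ∈ t, x l := by
  classical
  simp only [esym, Finset.prod_one_add, finset_sum_coeff, Finset.prod_mul_distrib, Finset.prod_const,
    ← map_prod, coeff_C_mul_X_pow]
  rw [← Finset.sum_filter]
  refine Finset.sum_congr ?_ fun _ _ => rfl
  ext t
  simp [Finset.mem_powersetCard, eq_comm]

end esym

section tensor

variable (k : Type u) [Field k] (d : ℕ)

/-- The target of the test map. -/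
abbrev Tgt : Type u := ⨂[k] _ : Fin d, TrivSqZeroExt k (k × k)

variable {k d}

/-- The vector `v` in the slot `l`. -/
noncomputable def ell (v : k × k) (l : Fin d) : Tgt k d :=
  PiTensorProduct.singleAlgHom (R := k) (A := fun _ : Fin d => TrivSqZeroExt k (k × k)) l (TrivSqZeroExt.inr v)

theorem ell_mul (v w : k × k) (l : Fin d) : ell v l * ell w l = 0 := by
  rw [ell, ell, ← map_mul, TrivSqZeroExt.inr_mul_inr, map_zero]

theorem prod_ell (v : k × k) (t : Finset (Fin d)) :
    ∏ l ∈ t, ell v l = PiTensorProduct.tprod k (fun j => if j ∈ t then TrivSqZeroExt.inr v else 1) := by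
  classical
  induction t using Finset.induction_on with
  | empty => simp [PiTensorProduct.one_def, Pi.one_def]
  | insert a t ha ih =>
    rw [Finset.prod_insert ha, ih, ell, PiTensorProduct.singleAlgHom_apply, PiTensorProduct.tprod_mul_tprod]
    congr 1
    funext j
    by_cases h : j = a
    · subst h; simp [ha, MonoidHom.mulSingle_apply]
    · simp [h, MonoidHom.mulSingle_apply]

/-- The functional selecting the pattern `i`. -/
noncomputable def pat (i : ℕ) : Tgt k d →ₗ[k] k :=
  PiTensorProduct.lift ((MultilinearMap.mkPiAlgebra k (Fin d) k).compLinearMap fun l : Fin d =>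
    if (l : ℕ) < i then (LinearMap.fst k k k).comp (TrivSqZeroExt.sndHom k (k × k))
    else (LinearMap.snd k k k).comp (TrivSqZeroExt.sndHom k (k × k)))

theorem pat_tprod (i : ℕ) (y : Fin d → TrivSqZeroExt k (k × k)) :
    pat i (PiTensorProduct.tprod k y) = ∏ l : Fin d, if (l : ℕ) < i then (y l).snd.1 else (y l).snd.2 := by
  simp only [pat, PiTensorProduct.lift.tprod, MultilinearMap.compLinearMap_apply, MultilinearMap.mkPiAlgebra_apply]
  refine Finset.prod_congr rfl fun l _ => ?_
  split_ifs <;> rfl

theorem pat_esym_diag {i : ℕ} (hi : i ≤ d) (a b : k) :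
    pat i (esym Finset.univ d (ell (d := d) (a, b))) = a ^ i * b ^ (d - i) := by
  have h : (Finset.univ : Finset (Fin d)).powersetCard d = {Finset.univ} := by
    simpa using Finset.powersetCard_self (Finset.univ : Finset (Fin d))
  rw [esym_eq_sum, h, Finset.sum_singleton, prod_ell, pat_tprod]
  simp only [Finset.mem_univ, if_true, TrivSqZeroExt.snd_inr]
  rw [Fin.prod_univ_eq_prod_range (fun l => if l < i then a else b) d,
    ← Finset.prod_range_mul_prod_Ico _ hi]
  congr 1
  · rw [Finset.prod_congr rfl fun l hl => if_pos (Finset.mem_range.1 hl), Finset.prod_const, Finset.card_range]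
  · rw [Finset.prod_congr rfl fun l hl => if_neg (Nat.not_lt.2 (Finset.mem_Ico.1 hl).1), Finset.prod_const, Nat.card_Ico]

theorem pat_esym_product {i : ℕ} (hi1 : 1 ≤ i) (hi : i < d) (hd : 2 ≤ d) :
    pat (k := k) i (esym Finset.univ 1 (ell (k := k) (d := d) ((1 : k), (0 : k))) * esym Finset.univ (d - 1) (ell (k := k) (d := d) ((0 : k), (1 : k)))) =
      if i = 1 then 1 else 0 := by
  classical
  simp only [esym_eq_sum, Finset.sum_mul_sum, map_sum, prod_ell, PiTensorProduct.tprod_mul_tprod]
  rw [← Finset.sum_product']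
  let z : Fin d := ⟨0, by omega⟩
  have hz : ∀ s ∈ ((Finset.univ : Finset (Fin d)).powersetCard 1 ×ˢ (Finset.univ : Finset (Fin d)).powersetCard (d - 1)),
      pat (k := k) i (PiTensorProduct.tprod k ((fun j => if j ∈ s.1 then TrivSqZeroExt.inr ((1, 0) : k × k) else 1) *
        fun j => if j ∈ s.2 then TrivSqZeroExt.inr ((0, 1) : k × k) else 1)) ≠ 0 →
        i = 1 ∧ s = ({z}, Finset.univ.erase z) := by
    rintro ⟨s₁, s₂⟩ hs hne
    rw [pat_tprod] at hne
    have hall := fun j => Finset.prod_ne_zero_iff.1 hne j (Finset.mem_univ j)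
    have h1 : ∀ j : Fin d, (j ∈ s₁ ↔ (j : ℕ) < i) ∧ (j ∈ s₂ ↔ ¬ (j : ℕ) < i) := by
      intro j
      have hj := hall j
      by_cases a1 : j ∈ s₁ <;> by_cases a2 : j ∈ s₂ <;> by_cases a3 : (j : ℕ) < i <;>
        simp [a1, a2, a3] at hj ⊢
    obtain ⟨hs₁, -⟩ := Finset.mem_product.1 hs
    obtain ⟨l, rfl⟩ := Finset.card_eq_one.1 (Finset.mem_powersetCard.1 hs₁).2
    have hzl : z = l := by simpa using (h1 z).1.2 (show (0 : ℕ) < i by omega)
    subst hzl
    have hi1' : i = 1 := by
      by_contra hne1
      have := (h1 ⟨1, by omega⟩).1.2 (show (1 : ℕ) < i by omega)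
      simp [z] at this
    subst hi1'
    refine ⟨rfl, Prod.ext rfl (Finset.ext fun j => ?_)⟩
    have hj := h1 j
    simp only [Finset.mem_singleton] at hj
    rw [hj.2, ← hj.1]
    simp
  split_ifs with hi1'
  · subst hi1'
    rw [Finset.sum_eq_single ({z}, Finset.univ.erase z)]
    · rw [pat_tprod]
      refine Finset.prod_eq_one fun j _ => ?_
      by_cases hj : j = z
      · subst hj; simp [z]
      · have : ¬ (j : ℕ) < 1 := fun h => hj (Fin.ext (show (j : ℕ) = 0 by omega))
        simp [hj, this]
    · intro s hs hne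
      by_contra h
      exact hne (hz s hs h).2
    · intro h
      exact absurd (Finset.mem_product.2 ⟨Finset.mem_powersetCard.2 ⟨Finset.subset_univ _, Finset.card_singleton _⟩,
        Finset.mem_powersetCard.2 ⟨Finset.subset_univ _, by simp⟩⟩) h
  · refine Finset.sum_eq_zero fun s hs => ?_
    by_contra h
    exact hi1' (hz s hs h).1

end tensor

/-- A `k²`-valued functional with basis vectors in its image obstructs spanning. -/
theorem not_span_of_functional {A M : Type u} [CommRing A] [AddCommGroup M] [Module A M] {k : Type u} [Field k]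
    [Fintype k] [Algebra A k] {d : ℕ} (hd : Fintype.card k < d) (g : M →ₗ[A] k × k) (m₁ m₂ : M)
    (h₁ : g m₁ = (1, 0)) (h₂ : g m₂ = (0, 1)) :
    DividedPowerAlgebra.dp A 1 m₁ * DividedPowerAlgebra.dp A (d - 1) m₂ ∉
      Submodule.span A (Set.range (DividedPowerAlgebra.dp A d : M → DividedPowerAlgebra A M)) := by
  classical
  haveI : IsScalarTower A k (Tgt k d) := inferInstance
  let f : ℕ × M → Tgt k d := fun z => esym Finset.univ z.1 (ell (d := d) (g z.2))
  have hell : ∀ (c : k) (v : k × k), ell (d := d) (c • v) = fun l => algebraMap k (Tgt k d) c * ell v l := fun c v => by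
    funext l
    rw [ell, TrivSqZeroExt.inr_smul, map_smul, Algebra.smul_def]
    rfl
  let L := DividedPowerAlgebra.lift' (R := A) (M := M) (f := f) (fun m => esym_zero _ _)
    (fun n r m => by
      simp only [f]
      rw [map_smul, ← algebraMap_smul k r (g m), hell, esym_smul, Algebra.smul_def, map_pow,
        IsScalarTower.algebraMap_apply A k (Tgt k d)])
    (fun n q m => esym_mul _ _ (fun l => ell_mul _ _ l) n q)
    (fun n u w => by
      simp only [f, map_add]
      rw [show ell (d := d) (g u + g w) = fun l => ell (g u) l + ell (g w) l from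
        funext fun l => by rw [ell, TrivSqZeroExt.inr_add, map_add]; rfl]
      exact esym_add _ _ _ (fun l => ell_mul _ _ l) n)
  let q := Fintype.card k
  have hq2 : 2 ≤ q := Fintype.one_lt_card
  let Φ : DividedPowerAlgebra A M →ₗ[A] k :=
    ((pat (k := k) (d := d) 1 - pat q).restrictScalars A).comp L.toLinearMap
  intro hmem
  have hzero : Submodule.span A (Set.range (DividedPowerAlgebra.dp A d : M → DividedPowerAlgebra A M)) ≤ LinearMap.ker Φ := by
    rw [Submodule.span_le]
    rintro _ ⟨m, rfl⟩
    have hL : L (DividedPowerAlgebra.dp A d m) = esym Finset.univ d (ell (d := d) (g m)) :=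
      DividedPowerAlgebra.lift'_apply_dp _ _ _ _ d m
    show (pat (k := k) (d := d) 1 - pat (k := k) (d := d) q : Tgt k d →ₗ[k] k) (L (DividedPowerAlgebra.dp A d m)) = 0
    rw [hL, LinearMap.sub_apply, ← Prod.mk.eta (p := g m), pat_esym_diag (by omega), pat_esym_diag (by omega),
      sub_eq_zero, pow_one, FiniteField.pow_card]
    congr 1
    rw [show d - 1 = (d - q - 1) + q by omega, pow_add, FiniteField.pow_card, ← pow_succ,
      show d - q - 1 + 1 = d - q by omega]
  have h0 := LinearMap.mem_ker.1 (hzero hmem)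
  change (pat (k := k) (d := d) 1 - pat (k := k) (d := d) q : Tgt k d →ₗ[k] k)
    (L (DividedPowerAlgebra.dp A 1 m₁ * DividedPowerAlgebra.dp A (d - 1) m₂)) = 0 at h0
  rw [map_mul L, DividedPowerAlgebra.lift'_apply_dp, DividedPowerAlgebra.lift'_apply_dp] at h0
  simp only [f, h₁, h₂] at h0
  rw [LinearMap.sub_apply, pat_esym_product le_rfl (by omega) (by omega),
    pat_esym_product (by omega) (by omega) (by omega), if_pos rfl, if_neg (by omega), sub_zero] at h0
  exact one_ne_zero h0

/-- A functional to `k²` unless the localisation is cyclic. -/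
theorem exists_functional_or_cyclic {A M : Type u} [CommRing A] [AddCommGroup M] [Module A M] [Module.Finite A M]
    (p : Ideal A) [p.IsPrime] :
    (∃ x : LocalizedModule p.primeCompl M, Submodule.span (Localization.AtPrime p) {x} = ⊤) ∨
      ∃ (g : M →ₗ[A] p.ResidueField × p.ResidueField) (m₁ m₂ : M), g m₁ = (1, 0) ∧ g m₂ = (0, 1) := by
  classical
  let L := Localization.AtPrime p
  let N := LocalizedModule p.primeCompl M
  let k := IsLocalRing.ResidueField L
  haveI : Module.Finite L N :=
    Module.Finite.of_isLocalizedModule p.primeCompl (LocalizedModule.mkLinearMap p.primeCompl M)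
  let w : M →ₗ[A] k ⊗[L] N :=
    ((TensorProduct.mk L k N 1).restrictScalars A).comp (LocalizedModule.mkLinearMap p.primeCompl M)
  by_cases h : ∃ m₁ m₂, LinearIndependent k ![w m₁, w m₂]
  · right
    obtain ⟨m₁, m₂, h⟩ := h
    obtain ⟨φ, hφ⟩ := LinearMap.exists_leftInverse_of_injective
      (Fintype.linearCombination k ![w m₁, w m₂]) (LinearMap.ker_eq_bot.2 h.fintypeLinearCombination_injective)
    let pr : (Fin 2 → k) →ₗ[k] k × k := (LinearMap.proj 0).prod (LinearMap.proj 1)
    have hw : ∀ i, φ (![w m₁, w m₂] i) = Pi.single i 1 := fun i => by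
      have := LinearMap.congr_fun hφ (Pi.single i (1 : k))
      simpa [Fintype.linearCombination_apply_single] using this
    refine ⟨((pr.comp φ).restrictScalars A).comp w, m₁, m₂, ?_, ?_⟩
    · have := hw 0
      simp only [Matrix.cons_val_zero] at this
      show pr (φ (w m₁)) = _
      rw [this]; rfl
    · have := hw 1
      simp only [Matrix.cons_val_one, Matrix.cons_val_zero] at this
      show pr (φ (w m₂)) = _
      rw [this]; rfl
  left
  push_neg at h
  obtain ⟨m₀, hm₀⟩ : ∃ m₀, ∀ m, w m ∈ Submodule.span k {w m₀} := by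
    by_cases hz : ∀ m, w m = 0
    · exact ⟨0, fun m => by simp [hz m]⟩
    push_neg at hz
    obtain ⟨m₀, hm₀⟩ := hz
    refine ⟨m₀, fun m => ?_⟩
    by_contra hm
    refine h m₀ m (linearIndependent_fin2.2 ⟨fun h0 => hm (by simp at h0; simp [h0]), fun a ha => ?_⟩)
    simp at ha
    by_cases ha0 : a = 0
    · simp [ha0] at ha; exact hm₀ ha.symm
    · exact hm (Submodule.mem_span_singleton.2 ⟨a⁻¹, by rw [← ha, smul_smul, inv_mul_cancel₀ ha0, one_smul]⟩)
  refine ⟨LocalizedModule.mkLinearMap p.primeCompl M m₀, ?_⟩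
  rw [← IsLocalRing.map_tensorProduct_mk_eq_top, eq_top_iff]
  rintro z -
  induction z using TensorProduct.induction_on with
  | zero => exact zero_mem _
  | add a b ha hb => exact add_mem ha hb
  | tmul c n =>
    obtain ⟨c, rfl⟩ := Ideal.Quotient.mk_surjective c
    obtain ⟨⟨m, s⟩, rfl⟩ : ∃ z : M × p.primeCompl, LocalizedModule.mk z.1 z.2 = n := by
      induction n using LocalizedModule.induction_on with
      | h a b => exact ⟨(a, b), rfl⟩
    obtain ⟨a, ha⟩ := Submodule.mem_span_singleton.1 (hm₀ m)
    obtain ⟨a, rfl⟩ := Ideal.Quotient.mk_surjective a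
    refine ⟨(c * Localization.mk 1 s * a) • LocalizedModule.mkLinearMap p.primeCompl M m₀,
      Submodule.smul_mem _ _ (Submodule.mem_span_singleton_self _), ?_⟩
    have hmk : LocalizedModule.mk m s = Localization.mk 1 s • LocalizedModule.mkLinearMap p.primeCompl M m := by
      rw [LocalizedModule.mkLinearMap_apply, LocalizedModule.mk_smul_mk, one_smul, mul_one]
    rw [hmk]
    have hc : ∀ (c : L) (x : N), (Ideal.Quotient.mk _ c : k) ⊗ₜ[L] x = c • ((1 : k) ⊗ₜ[L] x) := fun c x => by
      rw [TensorProduct.smul_tmul', Algebra.smul_def, mul_one]; rfl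
    refine Eq.trans ?_ (hc c _).symm
    rw [map_smul, TensorProduct.mk_apply, TensorProduct.tmul_smul, mul_smul, mul_smul]
    exact congrArg (c • ·) (congrArg (Localization.mk 1 s • ·) ((algebraMap_smul k a (w m₀)).symm.trans ha))

end Groth.Agent.GammaSpan
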